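import Mathlib.GroupTheory.Index
import Mathlib.Data.ZMod.QuotientGroup
import Mathlib.RingTheory.PrincipalIdealDomain
import Mathlib.Algebra.GCDMonoid.Finset
import Mathlib.LinearAlgebra.Matrix.ToLin
import Mathlib.Algebra.GCDMonoid.Nat
import Mathlib.Tactic.LinearCombination
import Mathlib.Tactic.Ring
import Mathlib.RingTheory.Int.Basic
import Mathlib.Algebra.EuclideanDomain.Int
import Mathlib.RingTheory.EuclideanDomain
import Mathlib.LinearAlgebra.Dimension.Finite
import Mathlib.LinearAlgebra.FreeModule.PID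

/-!
# Lattice indices attached to diagonal integer matrices
-/

open Finset

namespace Groth.Agent.CompLatIdx

variable {n : ℕ}

lemma card_quotient_comap {M : Type*} [AddCommGroup M] (X K : Submodule ℤ M) :
    Nat.card (K ⧸ X.comap K.subtype) = X.toAddSubgroup.relIndex K.toAddSubgroup := rfl

/-- Multiplication by a diagonal vector. -/
def dia (δ : Fin n → ℤ) : (Fin n → ℤ) →ₗ[ℤ] (Fin n → ℤ) := Matrix.mulVecLin (Matrix.diagonal δ)

lemma dia_apply (δ x : Fin n → ℤ) (i : Fin n) : dia δ x i = δ i * x i := by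
  simp [dia, Matrix.mulVec_diagonal]

lemma dia_injective {δ : Fin n → ℤ} (hδ : ∀ i, δ i ≠ 0) : Function.Injective (dia δ) :=
  fun x y h => funext fun i => mul_left_cancel₀ (hδ i) (by rw [← dia_apply, ← dia_apply, h])

lemma index_dia (δ : Fin n → ℤ) :
    (LinearMap.range (dia δ)).toAddSubgroup.index = (∏ i, δ i).natAbs := by
  have : (LinearMap.range (dia δ)).toAddSubgroup =
      AddSubgroup.pi Set.univ (fun i => AddSubgroup.zmultiples (δ i)) := by
    ext x
    simp only [Submodule.mem_toAddSubgroup, LinearMap.mem_range, AddSubgroup.mem_pi, Set.mem_univ, forall_const,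
      AddSubgroup.mem_zmultiples_iff]
    constructor
    · rintro ⟨y, rfl⟩ i
      exact ⟨y i, by rw [dia_apply, smul_eq_mul, mul_comm]⟩
    · intro h
      choose y hy using h
      exact ⟨y, funext fun i => by rw [dia_apply, ← hy i, smul_eq_mul, mul_comm]⟩
  rw [this, AddSubgroup.index_pi]
  simp only [Int.index_zmultiples]
  induction (univ : Finset (Fin n)) using Finset.induction with
  | empty => simp
  | insert a s ha ih => rw [Finset.prod_insert ha, Finset.prod_insert ha, ih, Int.natAbs_mul]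

lemma sum_apply (x : Fin n → ℤ) :
    (∑ i : Fin n, (LinearMap.proj i : (Fin n → ℤ) →ₗ[ℤ] ℤ)) x = ∑ i, x i := by
  rw [LinearMap.sum_apply]; rfl

/-- The kernel of the coordinate sum against the image of a diagonal map. -/
lemma relIndex_ker_sum (δ : Fin n → ℤ) (hn : 0 < n) :
    (univ.gcd δ).natAbs * (LinearMap.range (dia δ)).toAddSubgroup.relIndex
        (LinearMap.ker (∑ i : Fin n, (LinearMap.proj i : (Fin n → ℤ) →ₗ[ℤ] ℤ))).toAddSubgroup =
      (∏ i, δ i).natAbs := by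
  set S : (Fin n → ℤ) →ₗ[ℤ] ℤ := ∑ i : Fin n, LinearMap.proj i with hS
  set I := (LinearMap.range (dia δ)).toAddSubgroup
  set K := (LinearMap.ker S).toAddSubgroup
  have hsurj : Function.Surjective S.toAddMonoidHom := fun t => ⟨Pi.single ⟨0, hn⟩ t, by
    show S _ = t
    rw [hS, sum_apply]; simp⟩
  have hsup : K ⊔ I = (AddSubgroup.zmultiples (univ.gcd δ)).comap S.toAddMonoidHom := by
    refine le_antisymm (sup_le (fun x hx => ?_) ?_) (fun x hx => ?_)
    · rw [AddSubgroup.mem_comap]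
      show S x ∈ _
      rw [show S x = 0 from hx]; exact zero_mem _
    · rintro x ⟨y, rfl⟩
      rw [AddSubgroup.mem_comap]
      show S (dia δ y) ∈ _
      rw [hS, sum_apply]
      refine sum_mem fun i _ => ?_
      rw [dia_apply, Int.mem_zmultiples_iff]
      exact (Finset.gcd_dvd (Finset.mem_univ i)).mul_right _
    · obtain ⟨t, ht⟩ := AddSubgroup.mem_zmultiples_iff.mp hx
      obtain ⟨g, hg⟩ := Finset.gcd_eq_sum_mul (univ : Finset (Fin n)) δ
      rw [AddSubgroup.mem_sup]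
      refine ⟨x - dia δ (t • g), ?_, dia δ (t • g), ⟨_, rfl⟩, sub_add_cancel _ _⟩
      show S (x - dia δ (t • g)) = 0
      have hx' : S x = t * univ.gcd δ := by simpa [smul_eq_mul] using ht.symm
      rw [map_sub, hx', hg, Finset.mul_sum, hS, sum_apply, sub_eq_zero]
      refine Finset.sum_congr rfl fun i _ => ?_
      rw [dia_apply, Pi.smul_apply, smul_eq_mul]; ring
  have h1 : I.relIndex (K ⊔ I) * (K ⊔ I).index = I.index := AddSubgroup.relIndex_mul_index le_sup_right
  rw [AddSubgroup.relIndex_sup_right, index_dia] at h1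
  rw [hsup, AddSubgroup.index_comap_of_surjective _ hsurj, Int.index_zmultiples] at h1
  rw [mul_comm]; exact h1

/-- The first index formula. -/
theorem index_formula (δ : Fin n → ℤ) (hn : 0 < n) (hδ : ∀ i, δ i ≠ 0)
    (A : (Fin n → ℤ) →ₗ[ℤ] (Fin n → ℤ))
    (hSDA : (∑ i : Fin n, (LinearMap.proj i : (Fin n → ℤ) →ₗ[ℤ] ℤ)) ∘ₗ (dia δ) ∘ₗ A = 0) :
    (Nat.card (LinearMap.ker ((∑ i : Fin n, (LinearMap.proj i : (Fin n → ℤ) →ₗ[ℤ] ℤ)) ∘ₗ (dia δ)) ⧸
          (LinearMap.range A).comap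
            (LinearMap.ker ((∑ i : Fin n, (LinearMap.proj i : (Fin n → ℤ) →ₗ[ℤ] ℤ)) ∘ₗ (dia δ))).subtype) : ℤ) *
        |∏ i, δ i| =
      (univ.gcd δ) * Nat.card (LinearMap.ker (∑ i : Fin n, (LinearMap.proj i : (Fin n → ℤ) →ₗ[ℤ] ℤ)) ⧸
        (LinearMap.range ((dia δ) ∘ₗ A)).comap
          (LinearMap.ker (∑ i : Fin n, (LinearMap.proj i : (Fin n → ℤ) →ₗ[ℤ] ℤ))).subtype) := by
  rw [card_quotient_comap, card_quotient_comap]
  set S : (Fin n → ℤ) →ₗ[ℤ] ℤ := ∑ i : Fin n, LinearMap.proj i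
  set I := (LinearMap.range (dia δ)).toAddSubgroup
  set K := (LinearMap.ker S).toAddSubgroup
  set X := (LinearMap.range A).toAddSubgroup
  set Y := (LinearMap.range ((dia δ) ∘ₗ A)).toAddSubgroup
  set K' := (LinearMap.ker (S ∘ₗ dia δ)).toAddSubgroup
  have hXK : X ≤ K' := by
    rintro x ⟨y, rfl⟩
    exact LinearMap.congr_fun hSDA y
  have hmapX : Y = X.map (dia δ).toAddMonoidHom := by
    ext x
    constructor
    · rintro ⟨y, rfl⟩; exact ⟨A y, ⟨y, rfl⟩, rfl⟩
    · rintro ⟨_, ⟨y, rfl⟩, rfl⟩; exact ⟨y, rfl⟩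
  have hmapK : K'.map (dia δ).toAddMonoidHom = I ⊓ K := by
    ext x
    constructor
    · rintro ⟨y, hy, rfl⟩; exact ⟨⟨y, rfl⟩, hy⟩
    · rintro ⟨⟨y, rfl⟩, hy⟩; exact ⟨y, hy, rfl⟩
  have h1 : X.relIndex K' = Y.relIndex (I ⊓ K) := by
    rw [← hmapK, hmapX]
    exact (AddSubgroup.relIndex_map_map_of_injective (f := (dia δ).toAddMonoidHom) X K' (dia_injective hδ)).symm
  have h2 : Y.relIndex (I ⊓ K) * (I ⊓ K).relIndex K = Y.relIndex K := by
    refine AddSubgroup.relIndex_mul_relIndex _ _ _ ?_ inf_le_right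
    rw [← hmapK, hmapX]
    exact AddSubgroup.map_mono hXK
  rw [AddSubgroup.inf_relIndex_right] at h2
  have h3 := relIndex_ker_sum δ hn
  have hg : ((univ.gcd δ).natAbs : ℤ) = univ.gcd δ :=
    Int.natAbs_of_nonneg (Int.nonneg_of_normalize_eq_self Finset.normalize_gcd)
  rw [Int.abs_eq_natAbs, ← hg]
  exact_mod_cast (show X.relIndex K' * (∏ i, δ i).natAbs = (univ.gcd δ).natAbs * Y.relIndex K by
    rw [← h3, ← h2, h1]; ring)

/-- The second index formula. -/
theorem index_formula₂ (δ δ' : Fin n → ℤ) (hn : 0 < n) (hδ : ∀ i, δ i ≠ 0) (hδ' : ∀ i, δ' i ≠ 0)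
    (A : (Fin n → ℤ) →ₗ[ℤ] (Fin n → ℤ))
    (hSDA : (∑ i : Fin n, (LinearMap.proj i : (Fin n → ℤ) →ₗ[ℤ] ℤ)) ∘ₗ (dia δ) ∘ₗ A = 0)
    (hker : Module.finrank ℤ (LinearMap.ker A) = 1) (hδ'A : A δ' = 0) :
    (Nat.card (LinearMap.ker ((∑ i : Fin n, (LinearMap.proj i : (Fin n → ℤ) →ₗ[ℤ] ℤ)) ∘ₗ (dia δ)) ⧸
          (LinearMap.range A).comap
            (LinearMap.ker ((∑ i : Fin n, (LinearMap.proj i : (Fin n → ℤ) →ₗ[ℤ] ℤ)) ∘ₗ (dia δ))).subtype) : ℤ) *
        |∏ i, δ i| * |∏ i, δ' i| =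
      (univ.gcd δ) * (univ.gcd δ') *
        Nat.card (LinearMap.ker (∑ i : Fin n, (LinearMap.proj i : (Fin n → ℤ) →ₗ[ℤ] ℤ)) ⧸
          (LinearMap.range ((dia δ) ∘ₗ A ∘ₗ dia δ')).comap
            (LinearMap.ker (∑ i : Fin n, (LinearMap.proj i : (Fin n → ℤ) →ₗ[ℤ] ℤ))).subtype) := by
  rw [index_formula δ hn hδ A hSDA, card_quotient_comap, card_quotient_comap]
  set S : (Fin n → ℤ) →ₗ[ℤ] ℤ := ∑ i : Fin n, LinearMap.proj i
  set K := (LinearMap.ker S).toAddSubgroup
  set J := (LinearMap.range (dia δ')).toAddSubgroup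
  set C := (LinearMap.ker A).toAddSubgroup with hC
  set f := (dia δ ∘ₗ A).toAddMonoidHom
  set Y := (LinearMap.range ((dia δ) ∘ₗ A)).toAddSubgroup
  set Y' := (LinearMap.range ((dia δ) ∘ₗ A ∘ₗ dia δ')).toAddSubgroup
  have hY : Y = (⊤ : AddSubgroup (Fin n → ℤ)).map f := by
    ext x
    exact ⟨fun ⟨y, hy⟩ => ⟨y, trivial, hy⟩, fun ⟨y, _, hy⟩ => ⟨y, hy⟩⟩
  have hY' : Y' = J.map f := by
    ext x
    constructor
    · rintro ⟨y, rfl⟩; exact ⟨dia δ' y, ⟨y, rfl⟩, rfl⟩
    · rintro ⟨_, ⟨y, rfl⟩, rfl⟩; exact ⟨y, rfl⟩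
  have hfker : f.ker = C := by
    ext x
    show dia δ (A x) = 0 ↔ A x = 0
    exact ⟨fun h => dia_injective hδ (h.trans (map_zero _).symm), fun h => by rw [h, map_zero]⟩
  have h1 : Y'.relIndex Y = (J ⊔ C).index := by
    rw [hY, hY', AddSubgroup.relIndex_map_map, hfker, top_sup_eq, AddSubgroup.relIndex_top_right]
  have h2 : J.relIndex C * (J ⊔ C).index = J.index := by
    have := AddSubgroup.relIndex_mul_index (le_sup_left : J ≤ J ⊔ C)
    rwa [AddSubgroup.relIndex_sup_left] at this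
  obtain ⟨i₀⟩ : Nonempty (Fin n) := ⟨⟨0, hn⟩⟩
  obtain ⟨w, hw, hgw⟩ := Finset.extract_gcd δ' (Finset.univ_nonempty_iff.mpr ⟨i₀⟩)
  set d := univ.gcd δ' with hd
  have hd0 : d ≠ 0 := fun h => hδ' i₀ (by rw [hw i₀ (mem_univ _), h, zero_mul])
  have hwA : A w = 0 := by
    have : d • A w = 0 := by
      rw [← map_smul, show d • w = δ' from funext fun i => (hw i (mem_univ _)).symm, hδ'A]
    exact (smul_eq_zero.mp this).resolve_left hd0
  have hCw : C = AddSubgroup.zmultiples w := by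
    refine le_antisymm (fun x hx => ?_) (AddSubgroup.zmultiples_le_of_mem hwA)
    have hw0 : w ≠ 0 := fun h => hδ' i₀ (by rw [hw i₀ (mem_univ _), h]; simp)
    have hdep : ¬ LinearIndependent ℤ ![(⟨w, hwA⟩ : LinearMap.ker A), ⟨x, hx⟩] := fun h => by
      have := h.fintype_card_le_finrank
      rw [hker, Fintype.card_fin] at this
      omega
    rw [LinearIndependent.pair_iff] at hdep
    push Not at hdep
    obtain ⟨a, b, hab, hab'⟩ := hdep
    have hab2 : a • w + b • x = 0 := congrArg Subtype.val hab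
    have hb : b ≠ 0 := fun hb => by
      rw [hb, zero_smul, add_zero, smul_eq_zero] at hab2
      exact hab' (hab2.resolve_right hw0) hb
    obtain ⟨g, hg⟩ := Finset.gcd_eq_sum_mul (univ : Finset (Fin n)) w
    refine AddSubgroup.mem_zmultiples_iff.mpr ⟨∑ i, x i * g i, funext fun i => ?_⟩
    have hi : ∀ i, a * w i + b * x i = 0 := fun i => congrFun hab2 i
    refine mul_left_cancel₀ hb ?_
    show b * ((∑ j, x j * g j) * w i) = b * x i
    have hT : b * ∑ j, x j * g j = -a := by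
      calc b * ∑ j, x j * g j = ∑ j, -a * (w j * g j) := by
            rw [Finset.mul_sum]
            exact Finset.sum_congr rfl fun j _ => by linear_combination g j * hi j
        _ = -a := by rw [← Finset.mul_sum, ← hg, hgw, mul_one]
    rw [← mul_assoc, hT]
    linear_combination -(hi i)
  have hnn : 0 ≤ d := Int.nonneg_of_normalize_eq_self Finset.normalize_gcd
  have h3 : J.relIndex C = d.natAbs := by
    rw [hCw, show AddSubgroup.zmultiples w = ((zmultiplesHom (Fin n → ℤ)) w).range from rfl, ← AddSubgroup.index_comap, ← Int.index_zmultiples]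
    congr 1
    ext t
    rw [AddSubgroup.mem_comap, Int.mem_zmultiples_iff]
    constructor
    · rintro ⟨y, hy⟩
      obtain ⟨g, hg⟩ := Finset.gcd_eq_sum_mul (univ : Finset (Fin n)) w
      refine ⟨∑ i, w i * y i * g i, ?_⟩
      have hy' : ∀ i, d * w i * y i = t * w i := fun i => by
        rw [← hw i (mem_univ _), ← dia_apply]
        exact congrFun hy i
      calc t = t * ∑ i, w i * g i := by rw [← hg, hgw, mul_one]
        _ = _ := by
          rw [Finset.mul_sum, Finset.mul_sum]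
          exact Finset.sum_congr rfl fun i _ => by linear_combination -(g i) * hy' i
    · rintro ⟨s, rfl⟩
      refine ⟨fun _ => s, funext fun i => ?_⟩
      show dia δ' (fun _ => s) i = (d * s) * w i
      rw [dia_apply, hw i (mem_univ _)]; ring
  have h4 : Y'.relIndex Y * Y.relIndex K = Y'.relIndex K := by
    refine AddSubgroup.relIndex_mul_relIndex _ _ _ ?_ ?_
    · rw [hY, hY']; exact AddSubgroup.map_mono le_top
    · rintro x ⟨y, rfl⟩
      exact LinearMap.congr_fun hSDA y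
  rw [h1] at h4
  rw [index_dia, h3] at h2
  have hd' : (d.natAbs : ℤ) = d := Int.natAbs_of_nonneg hnn
  rw [Int.abs_eq_natAbs, ← hd', ← h2, ← h4]
  push_cast
  ring

end Groth.Agent.CompLatIdx
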